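import Mathlib
/-!
# Lengths of local rings of tensor products of field extensions
-/

set_option autoImplicit false
universe u
open TensorProduct

namespace LenInsepLib

/-- Length of a ring over itself is invariant under ring isomorphisms. -/
theorem length_eq_of_ringEquiv {A B : Type*} [CommRing A] [CommRing B] (e : A ≃+* B) :
    Module.length A A = Module.length B B := by
  apply WithBot.coe_injective
  rw [Module.coe_length, Module.coe_length]
  exact (Order.krullDim_eq_of_orderIso e.idealComapOrderIso).symm

theorem length_localization_congr {A B : Type*} [CommRing A] [CommRing B] (e : A ≃+* B)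
    (q : Ideal A) [q.IsPrime] (q' : Ideal B) [q'.IsPrime] (h : q'.comap e.toRingHom = q) :
    Module.length (Localization.AtPrime q) (Localization.AtPrime q) =
      Module.length (Localization.AtPrime q') (Localization.AtPrime q') := by
  refine length_eq_of_ringEquiv (IsLocalization.ringEquivOfRingEquiv (M := q.primeCompl) (T := q'.primeCompl) _ _ e ?_)
  subst h
  ext b
  constructor
  · rintro ⟨a, ha, rfl⟩; exact ha
  · intro hb
    refine ⟨e.symm b, ?_, e.apply_symm_apply b⟩
    show e.toRingHom (e.symm b) ∉ q'
    rw [show e.toRingHom (e.symm b) = b from e.apply_symm_apply b]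
    exact hb

section PurelyInseparable

variable (C F E : Type u) [CommRing C] [IsArtinianRing C] [IsReduced C] [Field F] [Field E]
  [Algebra F C] [Algebra F E] [IsPurelyInseparable F E] [Module.Finite F E]

theorem length_localization_dvd_finrank (q : Ideal (C ⊗[F] E)) [q.IsPrime] :
    ∃ a b : ℕ, a * b = Module.finrank F E ∧
      Module.length (Localization.AtPrime q) (Localization.AtPrime q) = (a : ℕ∞) := by
  classical
  let p : Ideal C := q.comap (algebraMap C (C ⊗[F] E))
  haveI : p.IsMaximal := IsArtinianRing.isMaximal_of_isPrime p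
  letI : Field (C ⧸ p) := Ideal.Quotient.field p
  let ψ : C ⊗[F] E →ₐ[F] (C ⧸ p) ⊗[F] E :=
    Algebra.TensorProduct.map (Ideal.Quotient.mkₐ F p) (AlgHom.id F E)
  letI : Algebra (C ⊗[F] E) ((C ⧸ p) ⊗[F] E) := ψ.toRingHom.toAlgebra
  have hψ : Function.Surjective ψ :=
    Algebra.TensorProduct.map_surjective _ _ Ideal.Quotient.mk_surjective Function.surjective_id
  have hker : RingHom.ker ψ = p.map (algebraMap C (C ⊗[F] E)) := by
    have h0 := Algebra.TensorProduct.rTensor_ker (R := F) (S := F) (C := E) (Ideal.Quotient.mkₐ F p) Ideal.Quotient.mk_surjective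
    rw [show RingHom.ker (Ideal.Quotient.mkₐ F p) = p from Ideal.mk_ker] at h0
    exact h0
  have hhomeo := PrimeSpectrum.isHomeomorph_comap_of_isPurelyInseparable F E C
  have hsub : Subsingleton (PrimeSpectrum ((C ⧸ p) ⊗[F] E)) :=
    (PrimeSpectrum.isHomeomorph_comap_of_isPurelyInseparable F E (C ⧸ p)).injective.subsingleton
  haveI : Nontrivial ((C ⧸ p) ⊗[F] E) :=
    Algebra.TensorProduct.nontrivial_of_algebraMap_injective_of_isDomain F (C ⧸ p) E
      (FaithfulSMul.algebraMap_injective F (C ⧸ p)) (FaithfulSMul.algebraMap_injective F E)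
  haveI : IsLocalRing ((C ⧸ p) ⊗[F] E) := by
    obtain ⟨m, hm⟩ := Ideal.exists_maximal ((C ⧸ p) ⊗[F] E)
    exact IsLocalRing.of_unique_max_ideal ⟨m, hm, fun m' hm' => congrArg PrimeSpectrum.asIdeal
      (Subsingleton.elim (⟨m', hm'.isPrime⟩ : PrimeSpectrum _) ⟨m, hm.isPrime⟩)⟩
  -- the local factor is the localization
  haveI : IsLocalization.AtPrime ((C ⧸ p) ⊗[F] E) q := by
    refine ⟨fun y => ?_, fun z => ?_, fun {x y} h => ?_⟩
    · by_contra hy
      refine y.2 ?_
      let Q : PrimeSpectrum (C ⊗[F] E) :=
        ⟨(IsLocalRing.maximalIdeal ((C ⧸ p) ⊗[F] E)).comap ψ.toRingHom, inferInstance⟩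
      have hQ : Q = ⟨q, inferInstance⟩ := by
        refine hhomeo.injective (PrimeSpectrum.ext ?_)
        refine ((‹p.IsMaximal›).eq_of_le (Ideal.IsPrime.ne_top inferInstance) fun c hc => ?_).symm
        show ψ (algebraMap C (C ⊗[F] E) c) ∈ IsLocalRing.maximalIdeal _
        have : ψ (algebraMap C (C ⊗[F] E) c) = 0 := by
          rw [← RingHom.mem_ker, hker]; exact Ideal.mem_map_of_mem _ hc
        rw [this]; exact zero_mem _
      have : (IsLocalRing.maximalIdeal ((C ⧸ p) ⊗[F] E)).comap ψ.toRingHom = q :=
        congrArg PrimeSpectrum.asIdeal hQ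
      show (y : C ⊗[F] E) ∈ q
      exact this.le ((IsLocalRing.mem_maximalIdeal _).2 hy)
    · obtain ⟨a, rfl⟩ := hψ z
      exact ⟨(a, 1), by simp; rfl⟩
    · have hmem : x - y ∈ p.map (algebraMap C (C ⊗[F] E)) := by
        rw [← hker, RingHom.mem_ker, map_sub, sub_eq_zero]; exact h
      have hann : ∀ c ∈ p, ∃ s ∉ p, s * c = 0 := by
        intro c hc
        haveI : IsArtinianRing (Localization.AtPrime p) := inferInstance
        haveI : IsReduced (Localization.AtPrime p) := inferInstance
        have hf := IsArtinianRing.isField_of_isReduced_of_isLocalRing (Localization.AtPrime p)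
        have h0 : algebraMap C (Localization.AtPrime p) c = 0 := by
          have hm := (IsLocalization.AtPrime.to_map_mem_maximal_iff (Localization.AtPrime p) p c).2 hc
          rwa [IsLocalRing.isField_iff_maximalIdeal_eq.1 hf, Ideal.mem_bot] at hm
        obtain ⟨s, hs⟩ := (IsLocalization.map_eq_zero_iff p.primeCompl _ c).1 h0
        exact ⟨s, s.2, hs⟩
      obtain ⟨S, hS⟩ := (inferInstance : IsNoetherianRing C).noetherian p
      choose s hs hs' using fun c : S => hann c.1 (hS ▸ Submodule.subset_span c.2)
      let t := ∏ c, s c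
      have ht : ∀ c ∈ p, t * c = 0 := by
        intro c hc
        rw [← hS] at hc
        induction hc using Submodule.span_induction with
        | mem c hc =>
          obtain ⟨m, hm⟩ := Finset.dvd_prod_of_mem s (Finset.mem_univ (⟨c, hc⟩ : S))
          rw [show t = s ⟨c, hc⟩ * m from hm, mul_right_comm, hs' ⟨c, hc⟩, zero_mul]
        | zero => exact mul_zero t
        | add a b _ _ ha hb => rw [mul_add, ha, hb, add_zero]
        | smul a b _ hb => rw [smul_eq_mul, mul_left_comm, hb, mul_zero]
      have htp : t ∉ p := fun h' =>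
        let ⟨c, _, hc⟩ := (‹p.IsMaximal›.isPrime.prod_mem_iff).1 h'
        hs c hc
      refine ⟨⟨algebraMap C (C ⊗[F] E) t, htp⟩, ?_⟩
      have hz : ∀ z ∈ p.map (algebraMap C (C ⊗[F] E)), algebraMap C (C ⊗[F] E) t * z = 0 := by
        intro z hz
        induction hz using Submodule.span_induction with
        | mem z hz =>
          obtain ⟨c, hc, rfl⟩ := hz
          rw [← map_mul, ht c hc, map_zero]
        | zero => exact mul_zero _
        | add a b _ _ ha hb => rw [mul_add, ha, hb, add_zero]
        | smul a b _ hb => rw [smul_eq_mul, mul_left_comm, hb, mul_zero]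
      have := hz _ hmem
      rw [mul_sub, sub_eq_zero] at this
      exact this
  let eloc := (IsLocalization.algEquiv q.primeCompl (Localization.AtPrime q) ((C ⧸ p) ⊗[F] E)).toRingEquiv
  let B := (C ⧸ p) ⊗[F] E
  have hfin : Module.Finite (C ⧸ p) B := inferInstance
  have h1 := IsLocalRing.length_restrictScalars (C ⧸ p) B B
  rw [Module.length_eq_finrank (C ⧸ p) B, Module.finrank_baseChange] at h1
  have hne : Module.length B B ≠ ⊤ := by
    haveI : IsArtinianRing B := isArtinian_of_tower (C ⧸ p) inferInstance
    exact Module.length_ne_top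
  have hres : Module.length (IsLocalRing.ResidueField (C ⧸ p)) (IsLocalRing.ResidueField B) ≠ ⊤ := by
    intro htop
    rw [htop, ENat.mul_top (Module.length_pos (R := B) (M := B)).ne'] at h1
    exact ENat.coe_ne_top _ h1
  obtain ⟨a, ha⟩ := ENat.ne_top_iff_exists.1 hne
  obtain ⟨b, hb⟩ := ENat.ne_top_iff_exists.1 hres
  refine ⟨a, b, ?_, ?_⟩
  · rw [← ha, ← hb] at h1; exact_mod_cast h1.symm
  · rw [length_eq_of_ringEquiv eloc, ha]

end PurelyInseparable

/-- Exponents: local rings of a purely inseparable base change of a reduced Artinian ring. -/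
theorem length_localization_eq_pow (C F E : Type u) [CommRing C] [IsArtinianRing C] [IsReduced C]
    [Field F] [Field E] [Algebra F C] [Algebra F E] [IsPurelyInseparable F E] [Module.Finite F E]
    (p : ℕ) [ExpChar F p] (q : Ideal (C ⊗[F] E)) [q.IsPrime] :
    ∃ n : ℕ, Module.length (Localization.AtPrime q) (Localization.AtPrime q) = (p ^ n : ℕ) := by
  obtain ⟨a, b, hab, hlen⟩ := length_localization_dvd_finrank C F E q
  obtain ⟨m, hm⟩ := IsPurelyInseparable.finrank_eq_pow F E p
  rw [hlen]
  rcases expChar_is_prime_or_one F p with hp | hp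
  · obtain ⟨n, -, hn⟩ := (Nat.dvd_prime_pow hp).1 (⟨b, by rw [← hm, ← hab]⟩ : a ∣ p ^ m)
    exact ⟨n, by rw [hn]⟩
  · subst hp
    rw [one_pow] at hm
    exact ⟨0, by rw [(mul_eq_one.1 (hab.trans hm)).1, pow_zero]⟩

theorem length_localization_equiv (C F E : Type u) [CommRing C] [IsArtinianRing C] [IsReduced C]
    [Field F] [Field E] [Algebra F C] [Algebra F E] [IsPurelyInseparable F E] [Module.Finite F E]
    (p : ℕ) [ExpChar F p] {D : Type u} [CommRing D] (e : C ⊗[F] E ≃+* D) (q : Ideal D) [q.IsPrime] :
    ∃ n : ℕ, Module.length (Localization.AtPrime q) (Localization.AtPrime q) = (p ^ n : ℕ) := by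
  obtain ⟨n, hn⟩ := length_localization_eq_pow C F E p (q.comap e.toRingHom)
  exact ⟨n, (length_localization_congr e (q.comap e.toRingHom) q rfl).symm.trans hn⟩

/-- Local rings of the base change of a finite field extension. -/
theorem length_localization_finite (k L K : Type u) [Field k] [Field L] [Field K] [Algebra k L]
    [Algebra k K] [Module.Finite k L] (p : ℕ) [ExpChar k p] (q : Ideal (L ⊗[k] K)) [q.IsPrime] :
    ∃ n : ℕ, Module.length (Localization.AtPrime q) (Localization.AtPrime q) = (p ^ n : ℕ) := by
  let Ls := separableClosure k L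
  let C := Ls ⊗[k] K
  haveI : Algebra.FormallyEtale k Ls := Algebra.FormallyEtale.of_isSeparable k Ls
  haveI : IsReduced (K ⊗[k] Ls) := Algebra.FormallyUnramified.isReduced_of_field K (K ⊗[k] Ls)
  haveI : IsArtinianRing (K ⊗[k] Ls) := isArtinian_of_tower K inferInstance
  let ec := (Algebra.TensorProduct.comm k K Ls).toRingEquiv
  haveI : IsReduced C := isReduced_of_injective ec.symm ec.symm.injective
  haveI : IsArtinianRing C := Function.Surjective.isArtinianRing (f := ec.toRingHom) ec.surjective
  haveI : ExpChar Ls p := expChar_of_injective_algebraMap (algebraMap k Ls).injective p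
  haveI : IsPurelyInseparable Ls L := separableClosure.isPurelyInseparable k L
  haveI : Module.Finite Ls L := Module.Finite.of_restrictScalars_finite k Ls L
  exact length_localization_equiv C Ls L p
    ((Algebra.TensorProduct.comm Ls C L).toRingEquiv.trans
      (Algebra.TensorProduct.cancelBaseChange k Ls L L K).toRingEquiv) q

end LenInsepLib
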