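import Groth.Agent.LenInsepLib.Fg
import Groth.Agent.S9501
/-!
# Purely inseparable extension of the ground field: points, residue fields and lengths
-/

set_option autoImplicit false
universe u

open CategoryTheory CategoryTheory.Limits AlgebraicGeometry TensorProduct

namespace LenInsepLib

variable {k : Type u} [Field k] (K : Type u) [Field K] [Algebra k K] [IsPurelyInseparable k K]

theorem subsingleton_spec_tensor (L : Type u) [Field L] [Algebra k L] :
    Subsingleton (PrimeSpectrum (L ⊗[k] K)) :=
  (PrimeSpectrum.isHomeomorph_comap_of_isPurelyInseparable k K L).injective.subsingleton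

variable {X : Scheme.{u}} (f : X ⟶ Spec (CommRingCat.of k))

/-- The projection from the base change. -/
noncomputable abbrev proj : pullback f (Spec.map (CommRingCat.ofHom (algebraMap k K))) ⟶ X :=
  pullback.fst f (Spec.map (CommRingCat.ofHom (algebraMap k K)))

/-- A fibre of the projection is the spectrum of the tensor product with the residue field. -/
theorem exists_fiber_iso (x : X) :
    ∃ (ψ : CommRingCat.of k ⟶ X.residueField x), Spec.map ψ = X.fromSpecResidueField x ≫ f ∧
      letI := ψ.hom.toAlgebra
      Nonempty ((proj K f).fiber x ≅ Spec (CommRingCat.of (X.residueField x ⊗[k] K))) := by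
  obtain ⟨ψ, hψ⟩ := Spec.map_surjective (X.fromSpecResidueField x ≫ f)
  refine ⟨ψ, hψ, ?_⟩
  letI := ψ.hom.toAlgebra
  have sq := (IsPullback.of_hasPullback (proj K f) (X.fromSpecResidueField x)).flip.paste_vert
    (IsPullback.of_hasPullback f (Spec.map (CommRingCat.ofHom (algebraMap k K))))
  rw [← hψ] at sq
  exact ⟨sq.isoPullback ≪≫ pullbackSpecIso k (X.residueField x) K⟩

theorem subsingleton_fiber (x : X) : Subsingleton ((proj K f).fiber x) := by
  obtain ⟨ψ, -, ⟨e⟩⟩ := exists_fiber_iso K f x
  letI := ψ.hom.toAlgebra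
  haveI : Subsingleton ↥(Spec (CommRingCat.of (X.residueField x ⊗[k] K))) :=
    subsingleton_spec_tensor (k := k) K (X.residueField x)
  exact (Scheme.homeoOfIso e).injective.subsingleton

theorem proj_bijective : Function.Bijective (proj K f) := by
  refine ⟨fun a b h => ?_, fun x => ?_⟩
  · haveI := subsingleton_fiber K f (proj K f a)
    have ha : a ∈ Set.range ((proj K f).fiberι (proj K f a)) := by
      rw [(proj K f).range_fiberι]; rfl
    have hb : b ∈ Set.range ((proj K f).fiberι (proj K f a)) := by
      rw [(proj K f).range_fiberι]; exact h.symm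
    obtain ⟨a', ha'⟩ := ha
    obtain ⟨b', hb'⟩ := hb
    rw [← ha', ← hb', Subsingleton.elim a' b']
  · haveI : Surjective (Spec.map (CommRingCat.ofHom (algebraMap k K))) := ⟨fun _ =>
      ⟨IsLocalRing.closedPoint K, @Subsingleton.elim (PrimeSpectrum k) inferInstance _ _⟩⟩
    exact (proj K f).surjective x

theorem residueFieldMap_isIntegral {A B : Scheme.{u}} (π : A ⟶ B) [IsIntegralHom π] (a : A)
    [Subsingleton (π.fiber (π a))] : (π.residueFieldMap a).hom.IsIntegral := by
  haveI : IsClosedImmersion (π.asFiberHom a) :=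
    .of_isPreimmersion _ (by rw [π.range_asFiberHom]; exact (Set.finite_singleton _).isClosed)
  haveI : IsIntegralHom (π.fiberToSpecResidueField (π a)) :=
    MorphismProperty.pullback_snd _ _ inferInstance
  rw [← IsIntegralHom.SpecMap_iff, ← π.asFiberHom_fiberToSpecResidueField a]
  infer_instance

/-- Transcendence degree of a residue extension. -/
noncomputable abbrev rtr {A B : Scheme.{u}} (g : A ⟶ B) (a : A) : Cardinal.{u} :=
  @Algebra.trdeg (B.residueField (g a)) (A.residueField a) _ _ (g.residueFieldMap a).hom.toAlgebra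

theorem rtr_comp {A B C : Scheme.{u}} (g : A ⟶ B) (h : B ⟶ C) (a : A) :
    rtr (g ≫ h) a = rtr h (g a) + rtr g a := by
  let α := (h.residueFieldMap (g a)).hom
  let β := (g.residueFieldMap a).hom
  have e : ((g ≫ h).residueFieldMap a).hom = β.comp α := by
    rw [Scheme.residueFieldMap_comp]; rfl
  letI := α.toAlgebra
  letI := β.toAlgebra
  letI : Algebra (C.residueField (h (g a))) (A.residueField a) := (β.comp α).toAlgebra
  haveI : IsScalarTower (C.residueField (h (g a))) (B.residueField (g a)) (A.residueField a) :=
    IsScalarTower.of_algebraMap_eq fun _ => rfl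
  unfold rtr
  rw [e]
  exact (trdeg_add_eq (C.residueField (h (g a))) (B.residueField (g a)) (A := A.residueField a)).symm

theorem rtr_eq_zero {A B : Scheme.{u}} (π : A ⟶ B) [IsIntegralHom π] (a : A)
    [Subsingleton (π.fiber (π a))] : rtr π a = 0 := by
  letI := (π.residueFieldMap a).hom.toAlgebra
  haveI : Algebra.IsIntegral (B.residueField (π a)) (A.residueField a) :=
    ⟨residueFieldMap_isIntegral π a⟩
  exact trdeg_eq_zero

theorem isIntegralHom_specMap : IsIntegralHom (Spec.map (CommRingCat.ofHom (algebraMap k K))) :=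
  IsIntegralHom.SpecMap_iff.2 fun z => Algebra.IsIntegral.isIntegral z

theorem rtr_snd_eq (x' : ↥(pullback f (Spec.map (CommRingCat.ofHom (algebraMap k K))))) :
    rtr (pullback.snd f (Spec.map (CommRingCat.ofHom (algebraMap k K)))) x' = rtr f (proj K f x') := by
  haveI := isIntegralHom_specMap (k := k) K
  haveI : IsIntegralHom (proj K f) := MorphismProperty.pullback_fst _ _ inferInstance
  haveI := subsingleton_fiber K f (proj K f x')
  have hsub : ∀ s, Subsingleton ((Spec.map (CommRingCat.ofHom (algebraMap k K))).fiber s) := fun s => by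
    haveI : Subsingleton ↥(Spec (CommRingCat.of K)) := inferInstanceAs (Subsingleton (PrimeSpectrum K))
    exact (Scheme.Hom.fiberι _ s).isEmbedding.injective.subsingleton
  haveI := hsub ((Spec.map (CommRingCat.ofHom (algebraMap k K)))
    (pullback.snd f (Spec.map (CommRingCat.ofHom (algebraMap k K))) x'))
  have h : rtr (proj K f ≫ f) x' =
      rtr (pullback.snd f (Spec.map (CommRingCat.ofHom (algebraMap k K))) ≫
        Spec.map (CommRingCat.ofHom (algebraMap k K))) x' := by rw [proj, pullback.condition]
  rw [rtr_comp, rtr_comp, rtr_eq_zero (proj K f), rtr_eq_zero (Spec.map _), add_zero, zero_add] at h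
  exact h.symm

theorem essFiniteType_residue [LocallyOfFiniteType f] (x : X) (ψ : CommRingCat.of k ⟶ X.residueField x)
    (hψ : Spec.map ψ = X.fromSpecResidueField x ≫ f) : ψ.hom.EssFiniteType := by
  let p : PrimeSpectrum k := f x
  have e : ψ = CommRingCat.ofHom (algebraMap k p.asIdeal.ResidueField) ≫
      (Scheme.Spec.residueFieldIso (CommRingCat.of k) p).inv ≫ f.residueFieldMap x := by
    apply Spec.map_injective
    rw [hψ, ← Scheme.Hom.SpecMap_residueFieldMap_fromSpecResidueField,
      ← Scheme.Spec.map_residueFieldIso_inv_eq_fromSpecResidueField, Spec.map_comp, Spec.map_comp,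
      Category.assoc]
  have h1 : ((f.stalkMap x) ≫ X.residue x).hom.EssFiniteType := by
    rw [CommRingCat.hom_comp]
    exact RingHom.EssFiniteType.stableUnderComposition _ _ (LocallyOfFiniteType.stalkMap f x)
      (RingHom.FiniteType.essFiniteType (RingHom.FiniteType.of_surjective _ (X.residue_surjective x)))
  rw [← Scheme.residue_residueFieldMap, CommRingCat.hom_comp] at h1
  rw [e, CommRingCat.hom_comp, CommRingCat.hom_comp]
  exact RingHom.EssFiniteType.stableUnderComposition _ _
    (RingHom.essFiniteType_algebraMap.2 inferInstance)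
    (RingHom.EssFiniteType.stableUnderComposition _ _
      (RingHom.FiniteType.essFiniteType (RingHom.FiniteType.of_surjective _
        (ConcreteCategory.bijective_of_isIso (Scheme.Spec.residueFieldIso (CommRingCat.of k) p).inv).surjective))
      (RingHom.EssFiniteType.of_comp _ h1))

theorem length_quotient_eq {A B : Scheme.{u}} (π : A ⟶ B) (s : B) (z : π.fiber s) (a : A)
    (hz : π.fiberι s z = a) :
    Module.length (A.presheaf.stalk a)
      (A.presheaf.stalk a ⧸ Ideal.map (π.stalkMap a).hom (IsLocalRing.maximalIdeal (B.presheaf.stalk (π a)))) =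
    Module.length ((π.fiber s).presheaf.stalk z) ((π.fiber s).presheaf.stalk z) := by
  subst hz
  obtain ⟨hsur, hker⟩ := Groth.Agent.S9501.result π s z
  let I := Ideal.map (π.stalkMap (π.fiberι s z)).hom
    (IsLocalRing.maximalIdeal (B.presheaf.stalk (π (π.fiberι s z))))
  rw [Module.length_eq_of_surjective (R := A.presheaf.stalk (π.fiberι s z) ⧸ I)
    (S := A.presheaf.stalk (π.fiberι s z)) Ideal.Quotient.mk_surjective]
  exact length_eq_of_ringEquiv
    ((Ideal.quotEquivOfEq hker.symm).trans (RingHom.quotientKerEquivOfSurjective hsur))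

theorem length_stalk_eq {Y : Scheme.{u}} {T : Type u} [CommRing T] (e : Y ≅ Spec (CommRingCat.of T)) (z : Y) :
    Module.length (Y.presheaf.stalk z) (Y.presheaf.stalk z) =
      Module.length (Localization.AtPrime (e.hom z).asIdeal) (Localization.AtPrime (e.hom z).asIdeal) := by
  let q : PrimeSpectrum T := e.hom z
  letI : Algebra T ((Spec (CommRingCat.of T)).presheaf.stalk (e.hom z)) :=
    StructureSheaf.stalkAlgebra T q
  haveI : IsLocalization.AtPrime ((Spec (CommRingCat.of T)).presheaf.stalk (e.hom z)) q.asIdeal :=
    StructureSheaf.IsLocalization.to_stalk T q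
  rw [← length_eq_of_ringEquiv (asIso (e.hom.stalkMap z)).commRingCatIsoToRingEquiv]
  exact length_eq_of_ringEquiv (A := (Spec (CommRingCat.of T)).presheaf.stalk (e.hom z))
    (B := Localization.AtPrime q.asIdeal)
    (IsLocalization.algEquiv q.asIdeal.primeCompl _ _).toRingEquiv

/-- The multiplicity of a point of the base change is a power of the exponential characteristic. -/
theorem exists_length_eq_pow [LocallyOfFiniteType f] (p : ℕ) [ExpChar k p]
    (x' : ↥(pullback f (Spec.map (CommRingCat.ofHom (algebraMap k K))))) :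
    ∃ n : ℕ, Module.length ((pullback f (Spec.map (CommRingCat.ofHom (algebraMap k K)))).presheaf.stalk x')
      ((pullback f (Spec.map (CommRingCat.ofHom (algebraMap k K)))).presheaf.stalk x' ⧸
        Ideal.map ((proj K f).stalkMap x').hom
          (IsLocalRing.maximalIdeal (X.presheaf.stalk (proj K f x')))) = (p ^ n : ℕ) := by
  let π := proj K f
  obtain ⟨z, hz⟩ : x' ∈ Set.range (π.fiberι (π x')) := by rw [π.range_fiberι]; rfl
  obtain ⟨ψ, hψ, ⟨e⟩⟩ := exists_fiber_iso K f (π x')
  letI := ψ.hom.toAlgebra
  haveI : Algebra.EssFiniteType k (X.residueField (π x')) :=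
    RingHom.essFiniteType_algebraMap.1 (essFiniteType_residue f _ ψ hψ)
  let w : PrimeSpectrum (X.residueField (π x') ⊗[k] K) := e.hom z
  have hmin : w.asIdeal ∈ minimalPrimes (X.residueField (π x') ⊗[k] K) := by
    haveI := subsingleton_spec_tensor (k := k) K (X.residueField (π x'))
    exact ⟨⟨w.2, bot_le⟩, fun r hr _ => (congrArg PrimeSpectrum.asIdeal
      (Subsingleton.elim (⟨r, hr.1⟩ : PrimeSpectrum _) w)).ge⟩
  obtain ⟨n, hn⟩ := length_localization_fg k (X.residueField (π x')) K p w.asIdeal hmin
  refine ⟨n, ?_⟩
  rw [length_quotient_eq π (π x') z x' hz, ← hn]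
  exact length_stalk_eq e z

end LenInsepLib
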