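import Groth.Agent.LenInsepLib.Tensor
import Groth.Agent.RichLib.FieldExtComponents
/-!
# Lengths of local rings of tensor products with finitely generated field extensions
-/

set_option autoImplicit false
universe u
open TensorProduct

namespace LenInsepLib

theorem length_localization_aux (k F L K : Type u) [Field k] [Field F] [Field L] [Field K]
    [Algebra k F] [Algebra k L] [Algebra F L] [IsScalarTower k F L] [Algebra k K] [Module.Finite F L]
    (p : ℕ) [ExpChar k p] (hD : IsDomain (F ⊗[k] K)) (q : Ideal (L ⊗[F] (F ⊗[k] K))) [q.IsPrime]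
    (hq : q ∈ minimalPrimes (L ⊗[F] (F ⊗[k] K))) :
    ∃ n : ℕ, Module.length (Localization.AtPrime q) (Localization.AtPrime q) = (p ^ n : ℕ) := by
  haveI := hD
  haveI : ExpChar F p := expChar_of_injective_algebraMap (algebraMap k F).injective p
  let D := F ⊗[k] K
  let Ω := FractionRing D
  let ι := Algebra.TensorProduct.map (AlgHom.id L L) (IsScalarTower.toAlgHom F D Ω)
  letI : Algebra (L ⊗[F] D) (L ⊗[F] Ω) := ι.toRingHom.toAlgebra
  haveI : IsScalarTower L (L ⊗[F] D) (L ⊗[F] Ω) :=
    IsScalarTower.of_algebraMap_eq fun x => (ι.commutes x).symm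
  let M : Submonoid (L ⊗[F] D) :=
    (nonZeroDivisors D).map (Algebra.TensorProduct.includeRight (R := F) (A := L))
  haveI : IsLocalization M (L ⊗[F] Ω) :=
    IsLocalization.tensorProduct_tensorProduct_right F L (nonZeroDivisors D) Ω
      (RingHom.ext fun d => by
        change ι ((1 : L) ⊗ₜ d) = _
        simp [ι])
  have hdisj : Disjoint (M : Set (L ⊗[F] D)) (q : Set (L ⊗[F] D)) := by
    rw [Set.disjoint_left]
    rintro _ ⟨d, hd, rfl⟩ hmem
    refine Set.disjoint_left.1 (Ideal.disjoint_nonZeroDivisors_of_mem_minimalPrimes hq) hmem ?_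
    refine mem_nonZeroDivisors_iff_right.2 fun z hz => ?_
    have hinj : Function.Injective (LinearMap.lTensor L (LinearMap.mulLeft F d)) :=
      Module.Flat.lTensor_preserves_injective_linearMap _ fun a b h =>
        mul_left_cancel₀ (nonZeroDivisors.ne_zero hd) h
    refine hinj ?_
    have key : ∀ w, LinearMap.lTensor L (LinearMap.mulLeft F d) w =
        w * Algebra.TensorProduct.includeRight (R := F) (A := L) d := fun w => ?_
    rw [map_zero, key, hz]
    induction w using TensorProduct.induction_on with
    | zero => simp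
    | tmul a b => simp [Algebra.TensorProduct.tmul_mul_tmul, mul_comm d b]
    | add a b ha hb => rw [map_add, ha, hb, add_mul]
  let q' : Ideal (L ⊗[F] Ω) := q.map (algebraMap (L ⊗[F] D) (L ⊗[F] Ω))
  haveI hq' : q'.IsPrime := IsLocalization.isPrime_of_isPrime_disjoint M (L ⊗[F] Ω) q inferInstance hdisj
  have hcomap : q'.comap (algebraMap (L ⊗[F] D) (L ⊗[F] Ω)) = q :=
    IsLocalization.comap_map_of_isPrime_disjoint M (L ⊗[F] Ω) inferInstance hdisj
  obtain ⟨n, hn⟩ := length_localization_finite F L Ω p q'
  refine ⟨n, ?_⟩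
  rw [← hn]
  have hloc := IsLocalization.isLocalization_isLocalization_atPrime_isLocalization M (Localization.AtPrime q') q'
  haveI : IsLocalization q.primeCompl (Localization.AtPrime q') := by
    convert hloc using 1
    ext x
    show x ∉ q ↔ x ∉ q'.comap _
    rw [hcomap]
  exact length_eq_of_ringEquiv (A := Localization.AtPrime q) (B := Localization.AtPrime q')
    (IsLocalization.algEquiv q.primeCompl (Localization.AtPrime q) (Localization.AtPrime q')).toRingEquiv

theorem length_localization_basis (k F L K : Type u) [Field k] [Field F] [Field L] [Field K]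
    [Algebra k F] [Algebra k L] [Algebra F L] [IsScalarTower k F L] [Algebra k K] [Module.Finite F L]
    (p : ℕ) [ExpChar k p] (hD : IsDomain (F ⊗[k] K)) (q : Ideal (L ⊗[k] K)) [q.IsPrime]
    (hq : q ∈ minimalPrimes (L ⊗[k] K)) :
    ∃ n : ℕ, Module.length (Localization.AtPrime q) (Localization.AtPrime q) = (p ^ n : ℕ) := by
  let e : L ⊗[F] (F ⊗[k] K) ≃+* L ⊗[k] K :=
    (Algebra.TensorProduct.cancelBaseChange k F L L K).toRingEquiv
  have hmin : q.comap e.toRingHom ∈ minimalPrimes (L ⊗[F] (F ⊗[k] K)) := by
    refine ⟨⟨inferInstance, bot_le⟩, fun r hr hle => ?_⟩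
    haveI := hr.1
    have hr' : r.comap e.symm.toRingHom ≤ q := fun z hz => by
      have := hle hz
      rwa [Ideal.mem_comap, show e.toRingHom (e.symm.toRingHom z) = z from e.apply_symm_apply z] at this
    intro z hz
    have := hq.2 ⟨Ideal.IsPrime.comap _, bot_le⟩ hr' hz
    rwa [Ideal.mem_comap, show e.symm.toRingHom (e.toRingHom z) = z from e.symm_apply_apply z] at this
  obtain ⟨n, hn⟩ := length_localization_aux k F L K p hD (q.comap e.toRingHom) hmin
  exact ⟨n, (length_localization_congr e _ q rfl).symm.trans hn⟩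


theorem length_localization_fg (k L K : Type u) [Field k] [Field L] [Field K] [Algebra k L]
    [Algebra k K] [Algebra.EssFiniteType k L] (p : ℕ) [ExpChar k p] (q : Ideal (L ⊗[k] K)) [q.IsPrime]
    (hq : q ∈ minimalPrimes (L ⊗[k] K)) :
    ∃ n : ℕ, Module.length (Localization.AtPrime q) (Localization.AtPrime q) = (p ^ n : ℕ) := by
  obtain ⟨ι, x, hx⟩ := exists_isTranscendenceBasis' k L
  let F := IntermediateField.adjoin k (Set.range x)
  haveI : Algebra.IsAlgebraic F L := hx.isAlgebraic_field
  haveI : Algebra.EssFiniteType F L := Algebra.EssFiniteType.of_comp k F L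
  haveI : Module.Finite F L := Algebra.finite_of_essFiniteType_of_isAlgebraic
  let Q := FractionRing (MvPolynomial ι k)
  haveI : IsDomain (Q ⊗[k] K) := RichLib.FieldExtComp.isDomain_tensor_fractionRing k K Q ι
  have hD : IsDomain (F ⊗[k] K) :=
    (Algebra.TensorProduct.congr hx.1.aevalEquivField.symm AlgEquiv.refl).toRingEquiv.toMulEquiv.isDomain (Q ⊗[k] K)
  exact length_localization_basis k F L K p hD q hq

end LenInsepLib
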